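import Mathlib
import Groth.Agent.Hensel.EtaleLift

/-!
# Value groups along unramified extensions of valuation rings

If `V → W` is an injective local map of valuation rings which is formally unramified and essentially
of finite type, every element of `W` is a unit times an element of `V`.

Proof: after multiplying an element by a suitable unit we may assume that among its conjugates
exactly those with the same valuation ring have its value, and that their sum has this value; the
quotient of two consecutive elementary symmetric functions then lies in the base field and has the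
same value.
-/

universe u

open Finset Polynomial

namespace Groth.Agent.ValEt

section Sums

variable {Ω : Type*} [Field Ω] {Γ : Type*} [LinearOrderedCommGroupWithZero Γ] (v : Valuation Ω Γ)
  {ι : Type*} [Fintype ι] [DecidableEq ι] (r : ι → Ω) (γ : Γ)

/-- The elementary symmetric function of degree `j` of the family `r`. -/
noncomputable def esym (j : ℕ) : Ω := ∑ T ∈ powersetCard j univ, ∏ σ ∈ T, r σ

theorem exists_esym_ratio (hγ : γ ≠ 0) (hsum : v (∑ σ ∈ univ.filter (fun σ => ¬ γ < v (r σ)), r σ) = γ) :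
    ∃ k : ℕ, v (esym r k) ≠ 0 ∧ v (esym r (k + 1)) = v (esym r k) * γ := by
  set S := univ.filter fun σ => γ < v (r σ) with hS
  have hγ0 : 0 < γ := zero_lt_iff.mpr hγ
  have hSpos : ∀ σ ∈ S, γ < v (r σ) := fun σ hσ => (mem_filter.mp hσ).2
  have hout : ∀ σ, σ ∉ S → v (r σ) ≤ γ := fun σ hσ => not_lt.mp fun h => hσ (mem_filter.mpr ⟨mem_univ _, h⟩)
  set P := ∏ σ ∈ S, v (r σ) with hP
  have hP0 : 0 < P := zero_lt_iff.mpr (prod_ne_zero_iff.mpr fun σ hσ => ((zero_lt_iff.mp (hγ0.trans (hSpos σ hσ)))))
  have key : ∀ T : Finset ι, ¬ S ⊆ T → ∀ d : ℕ, T.card = S.card + d → (∏ σ ∈ T, v (r σ)) < P * γ ^ d := by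
    intro T hT d hd
    rw [hP, ← prod_sdiff (inter_subset_left : T ∩ S ⊆ T), ← prod_sdiff (inter_subset_right : T ∩ S ⊆ S),
      mul_right_comm]
    refine mul_lt_mul_of_pos_right ?_ (zero_lt_iff.mpr (prod_ne_zero_iff.mpr fun σ hσ =>
      (zero_lt_iff.mp (hγ0.trans (hSpos σ (mem_inter.mp hσ).2)))))
    rw [sdiff_inter_self_left, sdiff_inter_self_right]
    have hne : (S \ T).Nonempty := by
      rwa [sdiff_nonempty]
    have hc : (T \ S).card = (S \ T).card + d := by
      have h1 := card_sdiff_add_card_inter T S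
      have h2 := card_sdiff_add_card_inter S T
      rw [inter_comm] at h2
      omega
    calc (∏ σ ∈ T \ S, v (r σ)) ≤ ∏ σ ∈ T \ S, γ :=
          prod_le_prod (fun _ _ => zero_le) fun σ hσ => hout σ (mem_sdiff.mp hσ).2
      _ = (∏ σ ∈ S \ T, γ) * γ ^ d := by rw [prod_const, prod_const, hc, pow_add]
      _ < (∏ σ ∈ S \ T, v (r σ)) * γ ^ d := by
          refine mul_lt_mul_of_pos_right ?_ (pow_pos hγ0 d)
          exact prod_lt_prod_of_nonempty (fun _ _ => hγ0) (fun σ hσ => hSpos σ (mem_sdiff.mp hσ).1) hne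
  have h0 : v (esym r S.card) = P := by
    unfold esym
    rw [v.map_sum_eq_of_lt (j := S) (mem_powersetCard.mpr ⟨subset_univ _, rfl⟩) fun T hT => ?_, map_prod]
    obtain ⟨hT1, hT2⟩ := mem_sdiff.mp hT
    have hTS : ¬ S ⊆ T := fun h => hT2 (mem_singleton.mpr (eq_of_subset_of_card_le h (mem_powersetCard.mp hT1).2.le).symm)
    rw [map_prod, map_prod]
    simpa [hP] using key T hTS 0 (mem_powersetCard.mp hT1).2
  refine ⟨S.card, by rw [h0]; exact hP0.ne', ?_⟩
  rw [h0]
  unfold esym
  rw [← sum_filter_add_sum_filter_not (powersetCard (S.card + 1) univ) (fun T => S ⊆ T)]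
  have h1 : (powersetCard (S.card + 1) (univ : Finset ι)).filter (fun T => S ⊆ T) =
      Sᶜ.image (fun ρ => insert ρ S) := by
    ext T
    simp only [mem_filter, mem_powersetCard, subset_univ, true_and, mem_image, mem_compl]
    refine ⟨fun ⟨hc, hsub⟩ => ?_, ?_⟩
    · obtain ⟨ρ, hρ⟩ := card_eq_one.mp (show (T \ S).card = 1 by rw [card_sdiff_of_subset hsub]; omega)
      have h2 : ρ ∈ T \ S := by rw [hρ]; exact mem_singleton_self ρ
      refine ⟨ρ, (mem_sdiff.mp h2).2, ?_⟩
      rw [insert_eq, ← hρ, sdiff_union_of_subset hsub]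
    · rintro ⟨ρ, hρ, rfl⟩
      exact ⟨card_insert_of_notMem hρ, subset_insert _ _⟩
  have h2 : v (∑ T ∈ (powersetCard (S.card + 1) (univ : Finset ι)).filter (fun T => S ⊆ T), ∏ σ ∈ T, r σ) = P * γ := by
    rw [h1, sum_image (fun a ha b hb hab => by
      have : a ∈ insert b S := hab ▸ mem_insert_self a S
      exact (mem_insert.mp this).resolve_right (mem_compl.mp ha))]
    rw [sum_congr rfl fun ρ hρ => prod_insert (mem_compl.mp hρ), ← sum_mul, map_mul, map_prod, ← hP]
    rw [show Sᶜ = univ.filter (fun σ => ¬ γ < v (r σ)) by rw [hS, compl_filter], hsum, mul_comm]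
  rw [v.map_add_eq_of_lt_left, h2]
  rw [h2]
  refine v.map_sum_lt (mul_ne_zero hP0.ne' hγ) fun T hT => ?_
  obtain ⟨hT1, hT2⟩ := mem_filter.mp hT
  rw [map_prod]
  simpa using key T hT2 1 (mem_powersetCard.mp hT1).2

theorem esym_fixed (e : ι ≃ ι) (τ : Ω →+* Ω) (h : ∀ σ, τ (r σ) = r (e σ)) (j : ℕ) :
    τ (esym r j) = esym r j := by
  unfold esym
  conv_rhs => rw [← map_univ_equiv e, powersetCard_map, sum_map]
  rw [map_sum]
  refine sum_congr rfl fun T _ => ?_
  rw [map_prod]
  show _ = ∏ σ ∈ T.map e.toEmbedding, r σ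
  rw [prod_map]
  exact prod_congr rfl fun σ _ => h σ

end Sums

section Integral

/-- `u`, `u⁻¹` lemma: some coefficient a unit gives `x` or its inverse in the local ring. -/
theorem exists_mul_mem {A L : Type*} [CommRing A] [Field L] [Algebra A L] [IsIntegrallyClosedIn A L]
    (m : Ideal A) (p : A[X]) (x : L) (hx : aeval x p = 0) (hc : ∃ i, p.coeff i ∉ m) :
    ∃ q r : A, algebraMap A L r = algebraMap A L q * x ∧ (q ∉ m ∨ r ∉ m) := by
  by_contra H
  push Not at H
  obtain ⟨i, hi⟩ := hc
  suffices ∀ p : A[X], aeval x p = 0 → ∀ i, p.coeff i ∈ m from hi (this p hx i)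
  clear hx hi i p
  intro p
  induction h : p.natDegree using Nat.strong_induction_on generalizing p with
  | _ n ih =>
    subst h
    intro hx i
    by_cases hn : p.natDegree = 0
    · rw [eq_C_of_natDegree_eq_zero hn, aeval_C] at hx
      rw [eq_C_of_natDegree_eq_zero hn, coeff_C]
      split_ifs
      · exact (H (p.coeff 0) 0 (by rw [hx, map_zero, zero_mul])).1
      · exact zero_mem m
    · have hint : IsIntegral A (p.leadingCoeff • x) := by
        exact isIntegral_leadingCoeff_smul p x hx
      obtain ⟨r, hr⟩ := IsIntegrallyClosedIn.isIntegral_iff.mp hint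
      obtain ⟨h1, h2⟩ := H p.leadingCoeff r (by rw [hr, Algebra.smul_def])
      let p' := p.eraseLead + C r * X ^ (p.natDegree - 1)
      have hp' : aeval x p' = 0 := by
        rw [map_add, map_mul, aeval_C, map_pow, aeval_X, hr, Algebra.smul_def, mul_assoc, ← pow_succ',
          Nat.sub_add_cancel (Nat.pos_of_ne_zero hn), ← aeval_C (x := x), ← aeval_X_pow (R := A) x,
          ← map_mul, ← map_add, eraseLead_add_C_mul_X_pow, hx]
      have hdeg : p'.natDegree < p.natDegree :=
        (natDegree_add_le _ _).trans_lt (max_lt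
          ((eraseLead_natDegree_le p).trans_lt (by omega))
          ((natDegree_C_mul_X_pow_le _ _).trans_lt (by omega)))
      have h3 := ih _ hdeg p' rfl hp' i
      simp only [p', coeff_add, coeff_C_mul, coeff_X_pow, eraseLead_coeff] at h3
      by_cases hi : i = p.natDegree
      · subst hi; exact h1
      · rw [if_neg hi] at h3
        exact (Ideal.add_mem_iff_left m (Ideal.mul_mem_right _ _ h2)).mp h3

/-- Over a valuation ring, a nonzero polynomial over the fraction field has a primitive multiple. -/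
theorem exists_primitive {V K : Type*} [CommRing V] [IsDomain V] [ValuationRing V] [Field K]
    [Algebra V K] [IsFractionRing V K] (p : K[X]) (hp : p ≠ 0) :
    ∃ (c : K) (q : V[X]), c ≠ 0 ∧ q.map (algebraMap V K) = C c * p ∧ ∃ i, IsUnit (q.coeff i) := by
  classical
  obtain ⟨b, hb0⟩ : ∃ b : V, b ∈ nonZeroDivisors V ∧ ∃ q : V[X], q.map (algebraMap V K) = C (algebraMap V K b) * p := by
    obtain ⟨b, hb⟩ := IsLocalization.integerNormalization_map_to_map (nonZeroDivisors V) p
    refine ⟨b, b.2, _, hb.trans ?_⟩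
    rw [Algebra.smul_def]
    rfl
  obtain ⟨hb, q, hq⟩ := hb0
  have hb' : algebraMap V K b ≠ 0 := IsFractionRing.to_map_ne_zero_of_mem_nonZeroDivisors hb
  have hq0 : q ≠ 0 := fun h => by
    rw [h, Polynomial.map_zero] at hq
    exact mul_ne_zero (C_ne_zero.mpr hb') hp hq.symm
  obtain ⟨i, hi, hmax⟩ : ∃ i ∈ q.support, ∀ j ∈ q.support, q.coeff i ∣ q.coeff j := by
    have : ∀ s : Finset ℕ, s.Nonempty → ∃ i ∈ s, ∀ j ∈ s, q.coeff i ∣ q.coeff j := by
      intro s hs
      induction hs using Finset.Nonempty.cons_induction with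
      | singleton a => exact ⟨a, mem_singleton_self a, fun j hj => by rw [mem_singleton.mp hj]⟩
      | cons a s has hs ih =>
        obtain ⟨i, hi, hmax⟩ := ih
        rcases ValuationRing.dvd_total (q.coeff i) (q.coeff a) with h | h
        · exact ⟨i, mem_cons_of_mem hi, fun j hj => (mem_cons.mp hj).elim (fun e => e ▸ h) (hmax j)⟩
        · exact ⟨a, mem_cons_self a s, fun j hj => (mem_cons.mp hj).elim (fun e => e ▸ dvd_rfl) fun hj => h.trans (hmax j hj)⟩
    exact this _ (support_nonempty.mpr hq0)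
  obtain ⟨q', hq'⟩ : ∃ q' : V[X], C (q.coeff i) * q' = q := by
    obtain ⟨q', hq'⟩ : C (q.coeff i) ∣ q := (C_dvd_iff_dvd_coeff _ _).mpr fun j => by
      by_cases hj : j ∈ q.support
      · exact hmax j hj
      · rw [notMem_support_iff.mp hj]; exact dvd_zero _
    exact ⟨q', hq'.symm⟩
  have hi0 : q.coeff i ≠ 0 := mem_support_iff.mp hi
  have hi' : algebraMap V K (q.coeff i) ≠ 0 := fun h => hi0 (IsFractionRing.injective V K (by rw [h, map_zero]))
  refine ⟨algebraMap V K b / algebraMap V K (q.coeff i), q', div_ne_zero hb' hi', ?_, i, ?_⟩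
  · refine mul_left_cancel₀ (C_ne_zero.mpr hi') ?_
    rw [← mul_assoc, ← C_mul, mul_div_cancel₀ _ hi', ← hq]
    conv_rhs => rw [← hq', Polynomial.map_mul, map_C]
  · refine IsUnit.of_mul_eq_one (M := V) 1 ?_
    refine mul_left_cancel₀ hi0 ?_
    rw [mul_one, mul_one]
    conv_rhs => rw [← hq', coeff_C_mul]

end Integral

end Groth.Agent.ValEt
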