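import Mathlib
import Groth.Agent.ValEt.Content

/-!
# Unramified extensions of valuation rings have the same value group
-/

universe u

open Finset Polynomial

namespace Groth.Agent.ValEt

variable {V W : Type u} [CommRing V] [IsDomain V] [ValuationRing V] [CommRing W] [IsDomain W]
  [ValuationRing W] [Algebra V W] [IsLocalHom (algebraMap V W)] [Algebra.FormallyUnramified V W]
  [Algebra.EssFiniteType V W]

set_option maxHeartbeats 1600000 in
-- one long argument with many instances on integral closures and value groups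
theorem exists_eq_mul (hinj : Function.Injective (algebraMap V W)) (b : W) (hb : b ≠ 0) :
    ∃ (a : V) (t : Wˣ), b = t * algebraMap V W a := by
  classical
  let K := FractionRing V
  let L := FractionRing W
  haveI : FaithfulSMul V L := (faithfulSMul_iff_algebraMap_injective V L).mpr (by
    rw [IsScalarTower.algebraMap_eq V W L]; exact (IsFractionRing.injective W L).comp hinj)
  letI : Algebra K L := FractionRing.liftAlgebra V L
  haveI : Algebra.EssFiniteType W L := Algebra.EssFiniteType.of_isLocalization L (nonZeroDivisors W)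
  haveI : Algebra.EssFiniteType V L := Algebra.EssFiniteType.comp V W L
  haveI : Algebra.EssFiniteType K L := Algebra.EssFiniteType.of_comp V K L
  haveI : Algebra.FormallyUnramified W L := Algebra.FormallyUnramified.of_isLocalization (nonZeroDivisors W)
  haveI : Algebra.FormallyUnramified V L := Algebra.FormallyUnramified.comp V W L
  haveI : Algebra.FormallyUnramified K L := Algebra.FormallyUnramified.of_restrictScalars V K L
  haveI : Algebra.IsSeparable K L := Algebra.FormallyUnramified.isSeparable K L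
  haveI : Module.Finite K L := Algebra.FormallyUnramified.finite_of_free K L
  let Ω := SeparableClosure K
  obtain ⟨ι⟩ : Nonempty (L →ₐ[K] Ω) := ⟨IsSepClosed.lift⟩
  obtain ⟨O, hmem, hloc⟩ := IsLocalRing.exists_factor_valuationRing
    ((ι : L →+* Ω).comp (algebraMap W L))
  set v := O.valuation with hv
  have hlt : ∀ w ∈ IsLocalRing.maximalIdeal W, v (ι (algebraMap W L w)) < 1 := fun w hw => by
    refine lt_of_le_of_ne ((O.valuation_le_one_iff _).mpr (hmem w)) fun h => ?_
    exact hw ((isUnit_map_iff (RingHom.codRestrict ((ι : L →+* Ω).comp (algebraMap W L)) O.toSubring hmem) w).mp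
      ((O.valuation_eq_one_iff (⟨_, hmem w⟩ : O)).mpr h))
  have hunit : ∀ w : W, IsUnit w → v (ι (algebraMap W L w)) = 1 := fun w hw =>
    (O.valuation_eq_one_iff (⟨_, hmem w⟩ : O)).mp
      (hw.map (RingHom.codRestrict ((ι : L →+* Ω).comp (algebraMap W L)) O.toSubring hmem))
  -- `W` is the preimage of `O`
  have hW : ∀ x : L, v (ι x) ≤ 1 → ∃ w : W, algebraMap W L w = x := by
    intro x hx
    obtain ⟨a, c, hc, rfl⟩ := IsFractionRing.div_surjective (A := W) x
    have hc0 : algebraMap W L c ≠ 0 := IsFractionRing.to_map_ne_zero_of_mem_nonZeroDivisors hc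
    rcases ValuationRing.dvd_total c a with ⟨e, rfl⟩ | ⟨e, rfl⟩
    · exact ⟨e, by rw [map_mul, mul_div_cancel_left₀ _ hc0]⟩
    · rw [map_mul] at hc0 hx ⊢
      rw [div_mul_cancel_left₀ (left_ne_zero_of_mul hc0), map_inv₀, map_inv₀] at hx
      rw [div_mul_cancel_left₀ (left_ne_zero_of_mul hc0)]
      by_cases he : IsUnit e
      · obtain ⟨t, rfl⟩ := he
        exact ⟨↑t⁻¹, by rw [map_units_inv]⟩
      · have h1 := hlt e he
        rcases eq_or_ne (v (ι (algebraMap W L e))) 0 with h0 | h0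
        · rw [map_eq_zero, map_eq_zero] at h0
          exact absurd h0 (right_ne_zero_of_mul hc0)
        · exact absurd hx (not_le.mpr ((one_lt_inv₀ (zero_lt_iff.mpr h0)).mpr h1))
  have hVK : ∀ (σ : L →ₐ[K] Ω) (a : V), σ (algebraMap V L a) = algebraMap K Ω (algebraMap V K a) := fun σ a => by
    rw [IsScalarTower.algebraMap_apply V K L, AlgHom.commutes]
  have hVι : ∀ (σ : L →ₐ[K] Ω) (a : V), σ (algebraMap V L a) = ι (algebraMap W L (algebraMap V W a)) := fun σ a => by
    rw [← IsScalarTower.algebraMap_apply, hVK, hVK]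
  have hVle : ∀ (σ : L →ₐ[K] Ω) (a : V), v (σ (algebraMap V L a)) ≤ 1 := fun σ a => by
    rw [hVι]; exact (O.valuation_le_one_iff _).mpr (hmem _)
  -- the integral closure and its centres
  let A := integralClosure V L
  have hA : ∀ (σ : L →ₐ[K] Ω) (a : A), v (σ a) ≤ 1 := fun σ a => by
    by_contra hgt
    rw [not_le] at hgt
    obtain ⟨p, hp, hpa⟩ := a.2
    have h1 : v (σ (∑ i ∈ range p.natDegree, algebraMap V L (p.coeff i) * (a : L) ^ i)) < v (σ a) ^ p.natDegree := by
      rw [map_sum]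
      refine v.map_sum_lt (pow_ne_zero _ (ne_of_gt (zero_lt_one.trans hgt))) fun i hi => ?_
      rw [map_mul, map_mul, map_pow, map_pow]
      exact (mul_le_of_le_one_left zero_le (hVle σ _)).trans_lt (pow_lt_pow_right₀ hgt (mem_range.mp hi))
    rw [← aeval_def, hp.as_sum, map_add, map_pow, aeval_X, map_sum] at hpa
    simp only [map_mul, aeval_C, map_pow, aeval_X] at hpa
    rw [eq_neg_of_add_eq_zero_right hpa, map_neg, Valuation.map_neg, map_pow, map_pow] at h1
    exact lt_irrefl _ h1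
  let cen : (L →ₐ[K] Ω) → Ideal A := fun σ =>
    { carrier := {a | v (σ a) < 1}
      add_mem' := fun {a c} ha hc => by
        show v (σ ((a : L) + c)) < 1
        rw [map_add]; exact v.map_add_lt ha hc
      zero_mem' := by show v (σ (0 : L)) < 1; rw [map_zero, map_zero]; exact zero_lt_one
      smul_mem' := fun c a ha => by
        show v (σ ((c : L) * a)) < 1
        rw [map_mul, map_mul]; exact (mul_le_of_le_one_left zero_le (hA σ c)).trans_lt ha }
  have hcenP : ∀ σ, (cen σ).IsPrime := fun σ => by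
    refine ⟨fun h => ?_, fun {a c} h => ?_⟩
    · have : v (σ ((1 : A) : L)) < 1 := (Ideal.eq_top_iff_one _).mp h
      simp at this
    · show v (σ a) < 1 ∨ v (σ c) < 1
      by_contra hne
      push Not at hne
      have h' : v (σ ((a : L) * c)) < 1 := h
      rw [map_mul, map_mul, le_antisymm (hA σ a) hne.1, le_antisymm (hA σ c) hne.2, one_mul] at h'
      exact lt_irrefl _ h'
  have hcenM : ∀ σ, (cen σ).IsMaximal := fun σ => by
    haveI := hcenP σ
    refine Ideal.isMaximal_of_isIntegral_of_isMaximal_comap (R := V) _ ?_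
    have : Ideal.comap (algebraMap V A) (cen σ) = IsLocalRing.maximalIdeal V := by
      refine le_antisymm (IsLocalRing.le_maximalIdeal (Ideal.IsPrime.ne_top inferInstance)) fun a ha => ?_
      show v (σ (algebraMap V L a)) < 1
      rw [hVι]
      exact hlt _ (map_nonunit (algebraMap V W) a ha)
    rw [this]; infer_instance
  haveI : IsIntegrallyClosedIn A L := inferInstance
  have hpoly : ∀ x : L, ∃ q : V[X], aeval x q = 0 ∧ ∃ i, IsUnit (q.coeff i) := fun x => by
    have hint : IsIntegral K x := IsIntegral.of_finite K x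
    obtain ⟨c, q, hc, hq, hu⟩ := exists_primitive (V := V) (minpoly K x) (minpoly.ne_zero hint)
    refine ⟨q, ?_, hu⟩
    rw [← aeval_map_algebraMap K, hq, map_mul, minpoly.aeval, mul_zero]
  -- every element of `W` is a quotient with denominator outside the centre
  have hquot : ∀ x : L, v (ι x) ≤ 1 → ∃ q r : A, q ∉ cen ι ∧ (r : L) = q * x := by
    intro x hx
    obtain ⟨p, hp, i, hi⟩ := hpoly x
    obtain ⟨q, r, hqr, h⟩ := exists_mul_mem (cen ι) (p.map (algebraMap V A)) x
      (by rw [aeval_map_algebraMap, hp]) ⟨i, fun hm => (hcenP ι).ne_top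
        (Ideal.eq_top_of_isUnit_mem _ hm (by rw [coeff_map]; exact hi.map _))⟩
    refine ⟨q, r, h.elim id fun hr hq => hr ?_, hqr⟩
    show v (ι r) < 1
    rw [show (r : L) = q * x from hqr, map_mul, map_mul]
    exact (mul_le_of_le_one_right zero_le hx).trans_lt hq
  let M : Finset (L →ₐ[K] Ω) := univ.filter fun σ => cen σ = cen ι
  have hMv : ∀ σ ∈ M, ∀ x : L, v (ι x) ≤ 1 → v (σ x) ≤ 1 ∧ (v (ι x) < 1 → v (σ x) < 1) := by
    intro σ hσ x hx
    obtain ⟨q, r, hq, hr⟩ := hquot x hx
    have hσe : cen σ = cen ι := (mem_filter.mp hσ).2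
    have hq1 : v (σ q) = 1 := le_antisymm (hA σ q) (not_lt.mp fun h => hq (hσe ▸ (show q ∈ cen σ from h)))
    have hrx : v (σ r) = v (σ x) := by rw [hr, map_mul, map_mul, hq1, one_mul]
    refine ⟨hrx ▸ hA σ r, fun hx1 => ?_⟩
    rw [← hrx]
    show r ∈ cen σ
    rw [hσe]
    show v (ι r) < 1
    rw [hr, map_mul, map_mul]
    exact (mul_le_of_le_one_left zero_le (hA ι q)).trans_lt hx1
  have hM1 : ∀ σ ∈ M, ∀ x : L, v (ι x) = 1 → v (σ x) = 1 := fun σ hσ x hx => by
    have hx0 : x ≠ 0 := by rintro rfl; simp at hx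
    have h2 := (hMv σ hσ x⁻¹ (by rw [map_inv₀, map_inv₀, hx, inv_one])).1
    rw [map_inv₀, map_inv₀] at h2
    have h0 : 0 < v (σ x) := zero_lt_iff.mpr (by simpa using hx0)
    exact le_antisymm (hMv σ hσ x hx.le).1 ((inv_le_one₀ h0).mp h2)
  -- some power of a value comes from the base
  have htor : ∀ x : L, x ≠ 0 → ∃ (N : ℕ) (k : K), 0 < N ∧ k ≠ 0 ∧ v (ι (x ^ N * algebraMap K L k)) = 1 := by
    intro x hx
    have hint : IsIntegral K x := IsIntegral.of_finite K x
    set p := minpoly K x with hp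
    have hx0 : v (ι x) ≠ 0 := by simpa using hx
    let g : ℕ → Ω := fun i => ι (algebraMap K L (p.coeff i) * x ^ i)
    have hsum : ∑ i ∈ p.support, g i = 0 := by
      rw [← map_sum]
      have : ∑ i ∈ p.support, algebraMap K L (p.coeff i) * x ^ i = aeval x p := by
        rw [aeval_def, eval₂_eq_sum, sum_def]
      rw [this, minpoly.aeval, map_zero]
    have hg : ∀ i ∈ p.support, v (g i) ≠ 0 := fun i hi => by
      simpa [g, hx] using mem_support_iff.mp hi
    obtain ⟨i, hi, hmax⟩ := p.support.exists_max_image (fun i => v (g i)) (support_nonempty.mpr (minpoly.ne_zero hint))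
    obtain ⟨j, hj, hne, hje⟩ : ∃ j ∈ p.support, j ≠ i ∧ v (g j) = v (g i) := by
      by_contra h
      push Not at h
      have h2 := v.map_sum_eq_of_lt (j := i) hi fun j hj => by
        obtain ⟨hj1, hj2⟩ := mem_sdiff.mp hj
        exact lt_of_le_of_ne (hmax j hj1) (h j hj1 (fun e => hj2 (mem_singleton.mpr e)))
      rw [hsum, map_zero] at h2
      exact hg i hi h2.symm
    have main : ∀ i j : ℕ, i < j → j ∈ p.support → i ∈ p.support → v (g j) = v (g i) →
        ∃ (N : ℕ) (k : K), 0 < N ∧ k ≠ 0 ∧ v (ι (x ^ N * algebraMap K L k)) = 1 := by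
      intro i j hij hj hi he
      have hci := mem_support_iff.mp hi
      refine ⟨j - i, p.coeff j / p.coeff i, by omega, div_ne_zero (mem_support_iff.mp hj) hci, ?_⟩
      have h3 : g j = ι (x ^ (j - i) * algebraMap K L (p.coeff j / p.coeff i)) * g i := by
        simp only [g]
        rw [← map_mul, map_div₀]
        congr 1
        have hc' : algebraMap K L (p.coeff i) ≠ 0 := by simpa using hci
        rw [show x ^ (j - i) * (algebraMap K L (p.coeff j) / algebraMap K L (p.coeff i)) * (algebraMap K L (p.coeff i) * x ^ i)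
          = algebraMap K L (p.coeff j) * (x ^ (j - i) * x ^ i) * (algebraMap K L (p.coeff i) / algebraMap K L (p.coeff i)) by ring,
          ← pow_add, Nat.sub_add_cancel hij.le, div_self hc', mul_one]
      rw [h3, map_mul] at he
      exact (mul_eq_right₀ (hg i hi)).mp he
    rcases lt_or_gt_of_ne hne with h | h
    · exact main j i h hi hj hje.symm
    · exact main i j h hj hi hje
  have hMeq : ∀ σ ∈ M, ∀ x : L, v (σ x) = v (ι x) := by
    intro σ hσ x
    rcases eq_or_ne x 0 with rfl | hx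
    · simp
    obtain ⟨N, k, hN, hk, h1⟩ := htor x hx
    have h2 := hM1 σ hσ _ h1
    rw [map_mul, map_mul, map_pow, map_pow, AlgHom.commutes] at h1 h2
    have hk0 : v (algebraMap K Ω k) ≠ 0 := by simpa using hk
    exact (pow_left_inj₀ zero_le zero_le (by omega)).mp (mul_right_cancel₀ hk0 (h2.trans h1.symm))
  -- residue characters
  have hMmem : ∀ σ : {σ // σ ∈ M}, ∀ w : W, σ.1 (algebraMap W L w) ∈ O := fun σ w =>
    (O.valuation_le_one_iff _).mp (hMv σ.1 σ.2 _ ((O.valuation_le_one_iff _).mpr (hmem w))).1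
  let φ : {σ // σ ∈ M} → W →+* O := fun σ =>
    RingHom.codRestrict ((σ.1 : L →+* Ω).comp (algebraMap W L)) O.toSubring (hMmem σ)
  let χ : {σ // σ ∈ M} → W →* IsLocalRing.ResidueField O := fun σ =>
    ((IsLocalRing.residue O).comp (φ σ) : W →+* IsLocalRing.ResidueField O)
  letI : Algebra V O := (RingHom.codRestrict ((ι : L →+* Ω).comp (algebraMap V L)) O.toSubring
    (fun a => (O.valuation_le_one_iff _).mp (hVle ι a))).toAlgebra
  have hχ : Function.Injective χ := by
    intro σ τ h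
    let f : {σ // σ ∈ M} → (W →ₐ[V] O) := fun σ =>
      { φ σ with commutes' := fun a => Subtype.ext (by
          show σ.1 (algebraMap W L (algebraMap V W a)) = ι (algebraMap V L a)
          rw [← IsScalarTower.algebraMap_apply, hVK, hVK]) }
    have he : f σ = f τ := Hensel.algHom_ext_of_unramified (J := IsLocalRing.maximalIdeal O)
      (IsLocalRing.maximalIdeal_le_jacobson _) fun s => Ideal.Quotient.eq.mp (DFunLike.congr_fun h s)
    refine Subtype.ext (AlgHom.coe_ringHom_injective (IsLocalization.ringHom_ext (nonZeroDivisors W) (RingHom.ext fun w => ?_)))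
    exact congrArg Subtype.val (DFunLike.congr_fun he w)
  -- coefficients
  set z := algebraMap W L b with hz
  have hz0 : z ≠ 0 := fun h => hb (IsFractionRing.injective W L (by rw [map_zero]; exact h))
  have hιz : v (ι z) ≠ 0 := by simpa using hz0
  have hc1 : ∀ σ : {σ // σ ∈ M}, v (σ.1 z / ι z) = 1 := fun σ => by
    rw [map_div₀, hMeq σ.1 σ.2, div_self hιz]
  let c : {σ // σ ∈ M} → IsLocalRing.ResidueField O := fun σ =>
    IsLocalRing.residue O ⟨_, (O.valuation_le_one_iff _).mp (hc1 σ).le⟩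
  have hιM : ι ∈ M := mem_filter.mpr ⟨mem_univ _, rfl⟩
  obtain ⟨θ, hθ⟩ : ∃ θ : W, ∑ σ : {σ // σ ∈ M}, c σ * χ σ θ ≠ 0 := by
    by_contra hno
    push Not at hno
    have hli := (linearIndependent_monoidHom W (IsLocalRing.ResidueField O)).comp χ hχ
    have h0 := Fintype.linearIndependent_iff.mp hli c (funext fun w => by simpa using hno w) ⟨ι, hιM⟩
    refine ((IsLocalRing.residue_ne_zero_iff_isUnit _).mpr ((O.valuation_eq_one_iff _).mpr (hc1 ⟨ι, hιM⟩))) h0
  -- separating element
  obtain ⟨y, hy, hy'⟩ : ∃ y : A, y - 1 ∈ cen ι ∧ ∀ σ, σ ∉ M → y ∈ cen σ := by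
    have htop : cen ι ⊔ ∏ σ ∈ univ \ M, cen σ = ⊤ := Ideal.sup_prod_eq_top fun σ hσ =>
      (hcenM ι).coprime_of_ne (hcenM σ) fun h => (mem_sdiff.mp hσ).2 (mem_filter.mpr ⟨mem_univ _, h.symm⟩)
    obtain ⟨p, hp, y, hy, hpy⟩ := Submodule.mem_sup.mp ((Ideal.eq_top_iff_one _).mp htop)
    refine ⟨y, by rw [← hpy, sub_add_cancel_right]; exact neg_mem hp, fun σ hσ => ?_⟩
    exact (Ideal.prod_le_inf.trans (Finset.inf_le (f := cen) (mem_sdiff.mpr ⟨mem_univ σ, hσ⟩))) hy
  have hy0 : (y : L) ≠ 0 := fun h => (hcenP ι).ne_top ((Ideal.eq_top_iff_one _).mpr (by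
    have h' : y = 0 := Subtype.ext h
    rw [h', zero_sub] at hy
    exact neg_mem_iff.mp hy))
  set θ' := algebraMap W L θ with hθ'
  have hθ1 : v (ι θ') = 1 := by
    refine hunit θ (by_contra fun hn => hθ (sum_eq_zero fun σ _ => ?_))
    have : φ σ θ ∈ IsLocalRing.maximalIdeal O := by
      rw [IsLocalRing.mem_maximalIdeal, mem_nonunits_iff]
      intro hu
      exact ((hMv σ.1 σ.2 _ (hlt θ hn).le).2 (hlt θ hn)).ne ((O.valuation_eq_one_iff _).mp hu)
    rw [show χ σ θ = 0 from (IsLocalRing.residue_eq_zero_iff _).mpr this, mul_zero]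
  have hθ0 : θ' ≠ 0 := fun h => by rw [h] at hθ1; simp at hθ1
  -- avoid collisions of values
  obtain ⟨n, hn⟩ : ∃ n : ℕ, ∀ σ, σ ∉ M → v (σ (z * θ')) * v (σ y) ^ n ≠ v (ι z) := by
    have hfin : ({n : ℕ | ∃ σ, σ ∉ M ∧ v (σ (z * θ')) * v (σ y) ^ n = v (ι z)}).Finite := by
      refine (Set.finite_iUnion fun σ : {σ // σ ∉ M} => (Set.Subsingleton.finite
        (s := {n : ℕ | v (σ.1 (z * θ')) * v (σ.1 y) ^ n = v (ι z)}) fun n hn m hm => ?_)).subset
        (fun n ⟨σ, hσ, h⟩ => Set.mem_iUnion.mpr ⟨⟨σ, hσ⟩, h⟩)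
      have h0 : v (σ.1 (z * θ')) ≠ 0 := by simpa using And.intro hz0 hθ0
      exact (pow_right_strictAnti₀ (zero_lt_iff.mpr (by simpa using hy0)) (hy' σ.1 σ.2)).injective
        (mul_left_cancel₀ h0 (hn.trans hm.symm))
    obtain ⟨n, hn⟩ := hfin.exists_notMem
    exact ⟨n, fun σ hσ h => hn ⟨σ, hσ, h⟩⟩
  set x := z * θ' * (y : L) ^ n with hx
  have hyM : ∀ σ ∈ M, v (σ y) = 1 ∧ v (σ ((y : L) ^ n) - 1) < 1 := by
    intro σ hσ
    have h1 : y ^ n - 1 ∈ cen σ := by
      rw [(mem_filter.mp hσ).2]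
      exact Ideal.mem_of_dvd _ (sub_one_dvd_pow_sub_one y n) hy
    have h2 : y - 1 ∈ cen σ := (mem_filter.mp hσ).2 ▸ hy
    refine ⟨le_antisymm (hA σ y) (not_lt.mp fun h => (hcenP σ).ne_top ((Ideal.eq_top_iff_one _).mpr ?_)), ?_⟩
    · have := sub_mem (show y ∈ cen σ from h) h2
      rwa [sub_sub_cancel] at this
    · have h1' : v (σ ((y : L) ^ n - 1)) < 1 := by simpa using (show v (σ ((y ^ n - 1 : A) : L)) < 1 from h1)
      rwa [map_sub σ, map_one σ] at h1'
  set γ := v (ι z) with hγ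
  have hxM : ∀ σ ∈ M, v (σ x) = γ := fun σ hσ => by
    simp only [hx, map_mul, map_pow, (hyM σ hσ).1, hMeq σ hσ z, hM1 σ hσ θ' hθ1, one_pow, mul_one, hγ]
  have hsum : v (∑ σ ∈ univ.filter (fun σ : L →ₐ[K] Ω => ¬ γ < v (σ x)), σ x) = γ := by
    have hsub : M ⊆ univ.filter (fun σ : L →ₐ[K] Ω => ¬ γ < v (σ x)) := fun σ hσ =>
      mem_filter.mpr ⟨mem_univ _, (hxM σ hσ).le.not_gt⟩
    have hMsum : v (∑ σ ∈ M, σ x) = γ := by
      have h2 : v (∑ σ ∈ M, σ x / ι z) = 1 := by
        have hmemO : ∀ σ : {σ // σ ∈ M}, σ.1 x / ι z ∈ O := fun σ =>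
          (O.valuation_le_one_iff _).mp (by rw [map_div₀, hxM σ.1 σ.2, div_self hιz])
        rw [← Finset.sum_coe_sort M, show (∑ σ : {σ // σ ∈ M}, σ.1 x / ι z) = ((∑ σ, (⟨_, hmemO σ⟩ : O) : O) : Ω) from
          (map_sum O.subtype (fun σ => (⟨_, hmemO σ⟩ : O)) univ).symm]
        refine (O.valuation_eq_one_iff _).mp ((IsLocalRing.residue_ne_zero_iff_isUnit _).mp ?_)
        rw [map_sum]
        convert hθ using 2 with σ
        show IsLocalRing.residue O _ = IsLocalRing.residue O _ * IsLocalRing.residue O (φ σ θ)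
        rw [← map_mul]
        refine Ideal.Quotient.eq.mpr ?_
        rw [IsLocalRing.mem_maximalIdeal, mem_nonunits_iff]
        intro hu
        refine absurd ((O.valuation_eq_one_iff _).mp hu) (ne_of_lt ?_)
        show v (σ.1 x / ι z - σ.1 z / ι z * σ.1 θ') < 1
        rw [show σ.1 x / ι z - σ.1 z / ι z * σ.1 θ' = σ.1 z / ι z * σ.1 θ' * (σ.1 ((y : L) ^ n) - 1) by
          simp only [hx, map_mul]; ring, map_mul, map_mul, hc1 σ, hM1 σ.1 σ.2 θ' hθ1, one_mul, one_mul]
        exact (hyM σ.1 σ.2).2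
      rw [← Finset.sum_div, map_div₀, div_eq_one_iff_eq hιz] at h2
      exact h2
    rw [← sum_sdiff hsub, v.map_add_eq_of_lt_right ?_, hMsum]
    rw [hMsum]
    refine v.map_sum_lt hιz fun σ hσ => ?_
    obtain ⟨h1, h2⟩ := mem_sdiff.mp hσ
    refine lt_of_le_of_ne (not_lt.mp (mem_filter.mp h1).2) ?_
    simpa only [hx, map_mul, map_pow] using hn σ h2
  obtain ⟨k, hk0, hk⟩ := exists_esym_ratio v (fun σ : L →ₐ[K] Ω => σ x) γ hιz hsum
  have hfix : ∀ j, esym (fun σ : L →ₐ[K] Ω => σ x) j ∈ Set.range (algebraMap K Ω) := fun j => by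
    rw [InfiniteGalois.mem_range_algebraMap_iff_fixed]
    intro τ
    exact esym_fixed _ ⟨fun σ => (τ : Ω →ₐ[K] Ω).comp σ, fun σ => (τ.symm : Ω →ₐ[K] Ω).comp σ,
      fun σ => AlgHom.ext fun l => τ.symm_apply_apply _, fun σ => AlgHom.ext fun l => τ.apply_symm_apply _⟩
      (τ : Ω →+* Ω) (fun σ => rfl) j
  obtain ⟨e₀, he₀⟩ := hfix k
  obtain ⟨e₁, he₁⟩ := hfix (k + 1)
  rw [← he₀, ← he₁] at hk
  rw [← he₀] at hk0
  have hq : v (algebraMap K Ω (e₁ / e₀)) = γ := by
    rw [map_div₀, map_div₀, hk, mul_div_cancel_left₀ _ hk0]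
  obtain ⟨a, ha⟩ : ∃ a : V, algebraMap V K a = e₁ / e₀ := by
    rcases ValuationRing.isInteger_or_isInteger V (e₁ / e₀) with ⟨a, ha⟩ | ⟨a, ha⟩
    · exact ⟨a, ha⟩
    · by_cases hu : IsUnit a
      · obtain ⟨t, rfl⟩ := hu
        exact ⟨↑t⁻¹, by rw [map_units_inv, ha, inv_inv]⟩
      · exfalso
        have h1 := hlt _ (map_nonunit (algebraMap V W) a hu)
        rw [← hVι ι, hVK ι, ha, map_inv₀, map_inv₀, hq] at h1
        exact absurd ((O.valuation_le_one_iff _).mpr (hmem b)) (not_le.mpr ((inv_lt_one₀ (zero_lt_iff.mpr hιz)).mp h1))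
  have ha1 : v (ι (algebraMap V L a)) = γ := by rw [hVK ι, ha, hq]
  have hdiv : v (ι (z / algebraMap V L a)) = 1 := by
    rw [map_div₀, map_div₀, ha1, div_self hιz]
  obtain ⟨t, ht⟩ := hW _ hdiv.le
  have htu : IsUnit t := by_contra fun hn => (hlt t hn).ne (by rw [ht, hdiv])
  refine ⟨a, htu.unit, IsFractionRing.injective W L ?_⟩
  have ha0 : algebraMap V L a ≠ 0 := fun h => hιz (by rw [← ha1, h, map_zero, map_zero])
  rw [map_mul, htu.unit_spec, ht, ← IsScalarTower.algebraMap_apply, div_mul_cancel₀ _ ha0]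

end Groth.Agent.ValEt
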