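import Mathlib
import Groth.Agent.ValEt.Main
import Groth.Agent.S1969
import Groth.Agent.WEtale.Basic

/-!
# Localisations of étale algebras over valuation rings
-/

universe u

namespace Groth.Agent.ValEt

/-- Flatness of all ideals ascends along weakly étale maps. -/
theorem ideals_flat_of_weaklyEtale (A B : Type u) [CommRing A] [CommRing B] [Algebra A B]
    [Algebra.WeaklyEtale A B]
    (hA : ∀ (M : Type u) [AddCommGroup M] [Module A M], Module.Flat A M → ∀ N : Submodule A M, Module.Flat A N)
    (I : Ideal B) : Module.Flat B I := by
  haveI : Module.Flat A I := hA B inferInstance (I.restrictScalars A)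
  exact WEtale.flat_of_flat_lmul' (A := A) (Algebra.WeaklyEtale.flat_lmul' A B)

theorem valuationRing_atPrime (A B : Type u) [CommRing A] [IsDomain A] [ValuationRing A]
    [CommRing B] [Algebra A B] [Algebra.Etale A B] (m : Ideal B) [m.IsPrime] :
    ∃ _ : IsDomain (Localization.AtPrime m), ValuationRing (Localization.AtPrime m) := by
  have hA : ∀ (M : Type u) [AddCommGroup M] [Module A M], Module.Flat A M → ∀ N : Submodule A M, Module.Flat A N := by
    refine ((S1969.result A).out 0 2 rfl rfl).mp fun I => ?_
    rw [Module.Flat.flat_iff_torsion_eq_bot_of_isBezout, eq_bot_iff]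
    intro x hx
    obtain ⟨c, hc⟩ := (Submodule.mem_torsion_iff x).mp hx
    have : (c : A) * (x : A) = 0 := congrArg Subtype.val hc
    exact Subtype.ext ((mul_eq_zero.mp this).resolve_left (nonZeroDivisors.ne_zero c.2))
  exact ((S1969.result B).out 0 3 rfl rfl).mp (ideals_flat_of_weaklyEtale A B hA) m

/-- An étale algebra localised at a prime over the maximal ideal of a valuation ring is a weakly unramified
extension of valuation rings. -/
theorem atPrime_spec (A B : Type u) [CommRing A] [IsDomain A] [ValuationRing A]
    [CommRing B] [Algebra A B] [Algebra.Etale A B] (m : Ideal B) [m.IsPrime]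
    (hm : Ideal.comap (algebraMap A B) m = IsLocalRing.maximalIdeal A) :
    IsDomain (Localization.AtPrime m) ∧ (∀ _ : IsDomain (Localization.AtPrime m), ValuationRing (Localization.AtPrime m)) ∧
    Function.Injective (algebraMap A (Localization.AtPrime m)) ∧ IsLocalHom (algebraMap A (Localization.AtPrime m)) ∧
    ∀ b : Localization.AtPrime m, b ≠ 0 → ∃ (a : A) (u : (Localization.AtPrime m)ˣ),
      b = u * algebraMap A (Localization.AtPrime m) a := by
  obtain ⟨hd, hv⟩ := valuationRing_atPrime A B m
  haveI : Module.Flat A (Localization.AtPrime m) := Module.Flat.trans A B (Localization.AtPrime m)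
  have hinj : Function.Injective (algebraMap A (Localization.AtPrime m)) := by
    rw [injective_iff_map_eq_zero]
    intro a ha
    by_contra h
    have h1 := Module.Flat.lTensor_preserves_injective_linearMap (M := Localization.AtPrime m)
      (LinearMap.toSpanSingleton A A a) (fun x y hxy => mul_right_cancel₀ h (by simpa using hxy))
    have h2 : (1 : Localization.AtPrime m) ⊗ₜ[A] (1 : A) = 0 := h1 (by
      rw [map_zero, LinearMap.lTensor_tmul, LinearMap.toSpanSingleton_apply, one_smul,
        show a = a • (1 : A) by simp, ← TensorProduct.smul_tmul, ← Algebra.algebraMap_eq_smul_one, ha,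
        TensorProduct.zero_tmul])
    have h3 := congrArg (TensorProduct.rid A (Localization.AtPrime m)) h2
    simp at h3
  haveI hloc : IsLocalHom (algebraMap A (Localization.AtPrime m)) := by
    refine ((IsLocalRing.local_hom_TFAE _).out 0 4).mpr ?_
    rw [IsScalarTower.algebraMap_eq A B (Localization.AtPrime m), ← Ideal.comap_comap,
      show Ideal.comap (algebraMap B (Localization.AtPrime m)) (IsLocalRing.maximalIdeal (Localization.AtPrime m)) = m
        from IsLocalization.AtPrime.under_maximalIdeal (Localization.AtPrime m) m, hm]
  haveI : Algebra.EssFiniteType B (Localization.AtPrime m) := Algebra.EssFiniteType.of_isLocalization _ m.primeCompl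
  haveI : Algebra.EssFiniteType A (Localization.AtPrime m) := Algebra.EssFiniteType.comp A B _
  haveI : Algebra.FormallyUnramified B (Localization.AtPrime m) := Algebra.FormallyUnramified.of_isLocalization m.primeCompl
  haveI : Algebra.FormallyUnramified A (Localization.AtPrime m) := Algebra.FormallyUnramified.comp A B _
  exact ⟨hd, fun _ => hv, hinj, hloc, fun b hb => exists_eq_mul hinj b hb⟩

end Groth.Agent.ValEt
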